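import Cfsg.Agent.Lib.SporRecognition.Cert.Fi22U.Tables
import Cfsg.Agent.Lib.SporRecognition.Cert.Fi22O.Tables

/-! Generated: the diagram automorphism of Fi22. -/

set_option autoImplicit false
set_option maxRecDepth 20000
set_option linter.all false
set_option Elab.async false

namespace CfsgLib.SporRecognition.Cert.Fi22Swap

open CfsgLib.SporRecognition.CosetCert
open CfsgLib.SporRecognition.Cert

/-- The diagram automorphism. -/
def sw : Cfsg.Spor.Fi22.Gen → Cfsg.Spor.Fi22.Gen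
  | .a => .g | .b => .f | .c => .e | .d => .d | .e => .c | .f => .b | .g => .a | .h => .h | .i => .i

def swW (w : List (Cfsg.Spor.Fi22.Gen × Bool)) : List (Cfsg.Spor.Fi22.Gen × Bool) := w.map fun x => (sw x.1, x.2)

theorem swapRel_c0 : allPow 3510 (fun u => (Fi22U.relW.map fun w => wordTabs Fi22U.tabs (swW w)).all fun ts => Nat.beq (trace ts u) u) 6 0 = true := by decide +kernel
theorem swapRel_c1 : allPow 3510 (fun u => (Fi22U.relW.map fun w => wordTabs Fi22U.tabs (swW w)).all fun ts => Nat.beq (trace ts u) u) 6 64 = true := by decide +kernel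
theorem swapRel_c2 : allPow 3510 (fun u => (Fi22U.relW.map fun w => wordTabs Fi22U.tabs (swW w)).all fun ts => Nat.beq (trace ts u) u) 6 128 = true := by decide +kernel
theorem swapRel_c3 : allPow 3510 (fun u => (Fi22U.relW.map fun w => wordTabs Fi22U.tabs (swW w)).all fun ts => Nat.beq (trace ts u) u) 6 192 = true := by decide +kernel
theorem swapRel_c4 : allPow 3510 (fun u => (Fi22U.relW.map fun w => wordTabs Fi22U.tabs (swW w)).all fun ts => Nat.beq (trace ts u) u) 6 256 = true := by decide +kernel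
theorem swapRel_c5 : allPow 3510 (fun u => (Fi22U.relW.map fun w => wordTabs Fi22U.tabs (swW w)).all fun ts => Nat.beq (trace ts u) u) 6 320 = true := by decide +kernel
theorem swapRel_c6 : allPow 3510 (fun u => (Fi22U.relW.map fun w => wordTabs Fi22U.tabs (swW w)).all fun ts => Nat.beq (trace ts u) u) 6 384 = true := by decide +kernel
theorem swapRel_c7 : allPow 3510 (fun u => (Fi22U.relW.map fun w => wordTabs Fi22U.tabs (swW w)).all fun ts => Nat.beq (trace ts u) u) 6 448 = true := by decide +kernel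
theorem swapRel_c8 : allPow 3510 (fun u => (Fi22U.relW.map fun w => wordTabs Fi22U.tabs (swW w)).all fun ts => Nat.beq (trace ts u) u) 6 512 = true := by decide +kernel
theorem swapRel_c9 : allPow 3510 (fun u => (Fi22U.relW.map fun w => wordTabs Fi22U.tabs (swW w)).all fun ts => Nat.beq (trace ts u) u) 6 576 = true := by decide +kernel
theorem swapRel_c10 : allPow 3510 (fun u => (Fi22U.relW.map fun w => wordTabs Fi22U.tabs (swW w)).all fun ts => Nat.beq (trace ts u) u) 6 640 = true := by decide +kernel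
theorem swapRel_c11 : allPow 3510 (fun u => (Fi22U.relW.map fun w => wordTabs Fi22U.tabs (swW w)).all fun ts => Nat.beq (trace ts u) u) 6 704 = true := by decide +kernel
theorem swapRel_c12 : allPow 3510 (fun u => (Fi22U.relW.map fun w => wordTabs Fi22U.tabs (swW w)).all fun ts => Nat.beq (trace ts u) u) 6 768 = true := by decide +kernel
theorem swapRel_c13 : allPow 3510 (fun u => (Fi22U.relW.map fun w => wordTabs Fi22U.tabs (swW w)).all fun ts => Nat.beq (trace ts u) u) 6 832 = true := by decide +kernel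
theorem swapRel_c14 : allPow 3510 (fun u => (Fi22U.relW.map fun w => wordTabs Fi22U.tabs (swW w)).all fun ts => Nat.beq (trace ts u) u) 6 896 = true := by decide +kernel
theorem swapRel_c15 : allPow 3510 (fun u => (Fi22U.relW.map fun w => wordTabs Fi22U.tabs (swW w)).all fun ts => Nat.beq (trace ts u) u) 6 960 = true := by decide +kernel
theorem swapRel_c16 : allPow 3510 (fun u => (Fi22U.relW.map fun w => wordTabs Fi22U.tabs (swW w)).all fun ts => Nat.beq (trace ts u) u) 6 1024 = true := by decide +kernel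
theorem swapRel_c17 : allPow 3510 (fun u => (Fi22U.relW.map fun w => wordTabs Fi22U.tabs (swW w)).all fun ts => Nat.beq (trace ts u) u) 6 1088 = true := by decide +kernel
theorem swapRel_c18 : allPow 3510 (fun u => (Fi22U.relW.map fun w => wordTabs Fi22U.tabs (swW w)).all fun ts => Nat.beq (trace ts u) u) 6 1152 = true := by decide +kernel
theorem swapRel_c19 : allPow 3510 (fun u => (Fi22U.relW.map fun w => wordTabs Fi22U.tabs (swW w)).all fun ts => Nat.beq (trace ts u) u) 6 1216 = true := by decide +kernel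
theorem swapRel_c20 : allPow 3510 (fun u => (Fi22U.relW.map fun w => wordTabs Fi22U.tabs (swW w)).all fun ts => Nat.beq (trace ts u) u) 6 1280 = true := by decide +kernel
theorem swapRel_c21 : allPow 3510 (fun u => (Fi22U.relW.map fun w => wordTabs Fi22U.tabs (swW w)).all fun ts => Nat.beq (trace ts u) u) 6 1344 = true := by decide +kernel
theorem swapRel_c22 : allPow 3510 (fun u => (Fi22U.relW.map fun w => wordTabs Fi22U.tabs (swW w)).all fun ts => Nat.beq (trace ts u) u) 6 1408 = true := by decide +kernel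
theorem swapRel_c23 : allPow 3510 (fun u => (Fi22U.relW.map fun w => wordTabs Fi22U.tabs (swW w)).all fun ts => Nat.beq (trace ts u) u) 6 1472 = true := by decide +kernel
theorem swapRel_c24 : allPow 3510 (fun u => (Fi22U.relW.map fun w => wordTabs Fi22U.tabs (swW w)).all fun ts => Nat.beq (trace ts u) u) 6 1536 = true := by decide +kernel
theorem swapRel_c25 : allPow 3510 (fun u => (Fi22U.relW.map fun w => wordTabs Fi22U.tabs (swW w)).all fun ts => Nat.beq (trace ts u) u) 6 1600 = true := by decide +kernel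
theorem swapRel_c26 : allPow 3510 (fun u => (Fi22U.relW.map fun w => wordTabs Fi22U.tabs (swW w)).all fun ts => Nat.beq (trace ts u) u) 6 1664 = true := by decide +kernel
theorem swapRel_c27 : allPow 3510 (fun u => (Fi22U.relW.map fun w => wordTabs Fi22U.tabs (swW w)).all fun ts => Nat.beq (trace ts u) u) 6 1728 = true := by decide +kernel
theorem swapRel_c28 : allPow 3510 (fun u => (Fi22U.relW.map fun w => wordTabs Fi22U.tabs (swW w)).all fun ts => Nat.beq (trace ts u) u) 6 1792 = true := by decide +kernel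
theorem swapRel_c29 : allPow 3510 (fun u => (Fi22U.relW.map fun w => wordTabs Fi22U.tabs (swW w)).all fun ts => Nat.beq (trace ts u) u) 6 1856 = true := by decide +kernel
theorem swapRel_c30 : allPow 3510 (fun u => (Fi22U.relW.map fun w => wordTabs Fi22U.tabs (swW w)).all fun ts => Nat.beq (trace ts u) u) 6 1920 = true := by decide +kernel
theorem swapRel_c31 : allPow 3510 (fun u => (Fi22U.relW.map fun w => wordTabs Fi22U.tabs (swW w)).all fun ts => Nat.beq (trace ts u) u) 6 1984 = true := by decide +kernel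
theorem swapRel_c32 : allPow 3510 (fun u => (Fi22U.relW.map fun w => wordTabs Fi22U.tabs (swW w)).all fun ts => Nat.beq (trace ts u) u) 6 2048 = true := by decide +kernel
theorem swapRel_c33 : allPow 3510 (fun u => (Fi22U.relW.map fun w => wordTabs Fi22U.tabs (swW w)).all fun ts => Nat.beq (trace ts u) u) 6 2112 = true := by decide +kernel
theorem swapRel_c34 : allPow 3510 (fun u => (Fi22U.relW.map fun w => wordTabs Fi22U.tabs (swW w)).all fun ts => Nat.beq (trace ts u) u) 6 2176 = true := by decide +kernel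
theorem swapRel_c35 : allPow 3510 (fun u => (Fi22U.relW.map fun w => wordTabs Fi22U.tabs (swW w)).all fun ts => Nat.beq (trace ts u) u) 6 2240 = true := by decide +kernel
theorem swapRel_c36 : allPow 3510 (fun u => (Fi22U.relW.map fun w => wordTabs Fi22U.tabs (swW w)).all fun ts => Nat.beq (trace ts u) u) 6 2304 = true := by decide +kernel
theorem swapRel_c37 : allPow 3510 (fun u => (Fi22U.relW.map fun w => wordTabs Fi22U.tabs (swW w)).all fun ts => Nat.beq (trace ts u) u) 6 2368 = true := by decide +kernel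
theorem swapRel_c38 : allPow 3510 (fun u => (Fi22U.relW.map fun w => wordTabs Fi22U.tabs (swW w)).all fun ts => Nat.beq (trace ts u) u) 6 2432 = true := by decide +kernel
theorem swapRel_c39 : allPow 3510 (fun u => (Fi22U.relW.map fun w => wordTabs Fi22U.tabs (swW w)).all fun ts => Nat.beq (trace ts u) u) 6 2496 = true := by decide +kernel
theorem swapRel_c40 : allPow 3510 (fun u => (Fi22U.relW.map fun w => wordTabs Fi22U.tabs (swW w)).all fun ts => Nat.beq (trace ts u) u) 6 2560 = true := by decide +kernel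
theorem swapRel_c41 : allPow 3510 (fun u => (Fi22U.relW.map fun w => wordTabs Fi22U.tabs (swW w)).all fun ts => Nat.beq (trace ts u) u) 6 2624 = true := by decide +kernel
theorem swapRel_c42 : allPow 3510 (fun u => (Fi22U.relW.map fun w => wordTabs Fi22U.tabs (swW w)).all fun ts => Nat.beq (trace ts u) u) 6 2688 = true := by decide +kernel
theorem swapRel_c43 : allPow 3510 (fun u => (Fi22U.relW.map fun w => wordTabs Fi22U.tabs (swW w)).all fun ts => Nat.beq (trace ts u) u) 6 2752 = true := by decide +kernel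
theorem swapRel_c44 : allPow 3510 (fun u => (Fi22U.relW.map fun w => wordTabs Fi22U.tabs (swW w)).all fun ts => Nat.beq (trace ts u) u) 6 2816 = true := by decide +kernel
theorem swapRel_c45 : allPow 3510 (fun u => (Fi22U.relW.map fun w => wordTabs Fi22U.tabs (swW w)).all fun ts => Nat.beq (trace ts u) u) 6 2880 = true := by decide +kernel
theorem swapRel_c46 : allPow 3510 (fun u => (Fi22U.relW.map fun w => wordTabs Fi22U.tabs (swW w)).all fun ts => Nat.beq (trace ts u) u) 6 2944 = true := by decide +kernel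
theorem swapRel_c47 : allPow 3510 (fun u => (Fi22U.relW.map fun w => wordTabs Fi22U.tabs (swW w)).all fun ts => Nat.beq (trace ts u) u) 6 3008 = true := by decide +kernel
theorem swapRel_c48 : allPow 3510 (fun u => (Fi22U.relW.map fun w => wordTabs Fi22U.tabs (swW w)).all fun ts => Nat.beq (trace ts u) u) 6 3072 = true := by decide +kernel
theorem swapRel_c49 : allPow 3510 (fun u => (Fi22U.relW.map fun w => wordTabs Fi22U.tabs (swW w)).all fun ts => Nat.beq (trace ts u) u) 6 3136 = true := by decide +kernel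
theorem swapRel_c50 : allPow 3510 (fun u => (Fi22U.relW.map fun w => wordTabs Fi22U.tabs (swW w)).all fun ts => Nat.beq (trace ts u) u) 6 3200 = true := by decide +kernel
theorem swapRel_c51 : allPow 3510 (fun u => (Fi22U.relW.map fun w => wordTabs Fi22U.tabs (swW w)).all fun ts => Nat.beq (trace ts u) u) 6 3264 = true := by decide +kernel
theorem swapRel_c52 : allPow 3510 (fun u => (Fi22U.relW.map fun w => wordTabs Fi22U.tabs (swW w)).all fun ts => Nat.beq (trace ts u) u) 6 3328 = true := by decide +kernel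
theorem swapRel_c53 : allPow 3510 (fun u => (Fi22U.relW.map fun w => wordTabs Fi22U.tabs (swW w)).all fun ts => Nat.beq (trace ts u) u) 6 3392 = true := by decide +kernel
theorem swapRel_c54 : allPow 3510 (fun u => (Fi22U.relW.map fun w => wordTabs Fi22U.tabs (swW w)).all fun ts => Nat.beq (trace ts u) u) 6 3456 = true := by decide +kernel
theorem swapRel : allBelow 12 3510 (fun u => (Fi22U.relW.map fun w => wordTabs Fi22U.tabs (swW w)).all fun ts => Nat.beq (trace ts u) u) = true :=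
  allBelow_of_upto (hi := 3520)
    (Upto.trans (mid := 1728) (Upto.trans (mid := 832) (Upto.trans (mid := 384) (Upto.trans (mid := 192) (Upto.trans (mid := 64) ((Upto.of_pow swapRel_c0 (Nat.le_refl _)) : Upto _ _ 0 (0 + 2 ^ 6))
    (Upto.trans (mid := 128) ((Upto.of_pow swapRel_c1 (Nat.le_refl _)) : Upto _ _ 64 (64 + 2 ^ 6))
    ((Upto.of_pow swapRel_c2 (Nat.le_refl _)) : Upto _ _ 128 (128 + 2 ^ 6))))
    (Upto.trans (mid := 256) ((Upto.of_pow swapRel_c3 (Nat.le_refl _)) : Upto _ _ 192 (192 + 2 ^ 6))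
    (Upto.trans (mid := 320) ((Upto.of_pow swapRel_c4 (Nat.le_refl _)) : Upto _ _ 256 (256 + 2 ^ 6))
    ((Upto.of_pow swapRel_c5 (Nat.le_refl _)) : Upto _ _ 320 (320 + 2 ^ 6)))))
    (Upto.trans (mid := 576) (Upto.trans (mid := 448) ((Upto.of_pow swapRel_c6 (Nat.le_refl _)) : Upto _ _ 384 (384 + 2 ^ 6))
    (Upto.trans (mid := 512) ((Upto.of_pow swapRel_c7 (Nat.le_refl _)) : Upto _ _ 448 (448 + 2 ^ 6))
    ((Upto.of_pow swapRel_c8 (Nat.le_refl _)) : Upto _ _ 512 (512 + 2 ^ 6))))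
    (Upto.trans (mid := 704) (Upto.trans (mid := 640) ((Upto.of_pow swapRel_c9 (Nat.le_refl _)) : Upto _ _ 576 (576 + 2 ^ 6))
    ((Upto.of_pow swapRel_c10 (Nat.le_refl _)) : Upto _ _ 640 (640 + 2 ^ 6)))
    (Upto.trans (mid := 768) ((Upto.of_pow swapRel_c11 (Nat.le_refl _)) : Upto _ _ 704 (704 + 2 ^ 6))
    ((Upto.of_pow swapRel_c12 (Nat.le_refl _)) : Upto _ _ 768 (768 + 2 ^ 6))))))
    (Upto.trans (mid := 1280) (Upto.trans (mid := 1024) (Upto.trans (mid := 896) ((Upto.of_pow swapRel_c13 (Nat.le_refl _)) : Upto _ _ 832 (832 + 2 ^ 6))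
    (Upto.trans (mid := 960) ((Upto.of_pow swapRel_c14 (Nat.le_refl _)) : Upto _ _ 896 (896 + 2 ^ 6))
    ((Upto.of_pow swapRel_c15 (Nat.le_refl _)) : Upto _ _ 960 (960 + 2 ^ 6))))
    (Upto.trans (mid := 1152) (Upto.trans (mid := 1088) ((Upto.of_pow swapRel_c16 (Nat.le_refl _)) : Upto _ _ 1024 (1024 + 2 ^ 6))
    ((Upto.of_pow swapRel_c17 (Nat.le_refl _)) : Upto _ _ 1088 (1088 + 2 ^ 6)))
    (Upto.trans (mid := 1216) ((Upto.of_pow swapRel_c18 (Nat.le_refl _)) : Upto _ _ 1152 (1152 + 2 ^ 6))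
    ((Upto.of_pow swapRel_c19 (Nat.le_refl _)) : Upto _ _ 1216 (1216 + 2 ^ 6)))))
    (Upto.trans (mid := 1472) (Upto.trans (mid := 1344) ((Upto.of_pow swapRel_c20 (Nat.le_refl _)) : Upto _ _ 1280 (1280 + 2 ^ 6))
    (Upto.trans (mid := 1408) ((Upto.of_pow swapRel_c21 (Nat.le_refl _)) : Upto _ _ 1344 (1344 + 2 ^ 6))
    ((Upto.of_pow swapRel_c22 (Nat.le_refl _)) : Upto _ _ 1408 (1408 + 2 ^ 6))))
    (Upto.trans (mid := 1600) (Upto.trans (mid := 1536) ((Upto.of_pow swapRel_c23 (Nat.le_refl _)) : Upto _ _ 1472 (1472 + 2 ^ 6))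
    ((Upto.of_pow swapRel_c24 (Nat.le_refl _)) : Upto _ _ 1536 (1536 + 2 ^ 6)))
    (Upto.trans (mid := 1664) ((Upto.of_pow swapRel_c25 (Nat.le_refl _)) : Upto _ _ 1600 (1600 + 2 ^ 6))
    ((Upto.of_pow swapRel_c26 (Nat.le_refl _)) : Upto _ _ 1664 (1664 + 2 ^ 6)))))))
    (Upto.trans (mid := 2624) (Upto.trans (mid := 2176) (Upto.trans (mid := 1920) (Upto.trans (mid := 1792) ((Upto.of_pow swapRel_c27 (Nat.le_refl _)) : Upto _ _ 1728 (1728 + 2 ^ 6))
    (Upto.trans (mid := 1856) ((Upto.of_pow swapRel_c28 (Nat.le_refl _)) : Upto _ _ 1792 (1792 + 2 ^ 6))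
    ((Upto.of_pow swapRel_c29 (Nat.le_refl _)) : Upto _ _ 1856 (1856 + 2 ^ 6))))
    (Upto.trans (mid := 2048) (Upto.trans (mid := 1984) ((Upto.of_pow swapRel_c30 (Nat.le_refl _)) : Upto _ _ 1920 (1920 + 2 ^ 6))
    ((Upto.of_pow swapRel_c31 (Nat.le_refl _)) : Upto _ _ 1984 (1984 + 2 ^ 6)))
    (Upto.trans (mid := 2112) ((Upto.of_pow swapRel_c32 (Nat.le_refl _)) : Upto _ _ 2048 (2048 + 2 ^ 6))
    ((Upto.of_pow swapRel_c33 (Nat.le_refl _)) : Upto _ _ 2112 (2112 + 2 ^ 6)))))
    (Upto.trans (mid := 2368) (Upto.trans (mid := 2240) ((Upto.of_pow swapRel_c34 (Nat.le_refl _)) : Upto _ _ 2176 (2176 + 2 ^ 6))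
    (Upto.trans (mid := 2304) ((Upto.of_pow swapRel_c35 (Nat.le_refl _)) : Upto _ _ 2240 (2240 + 2 ^ 6))
    ((Upto.of_pow swapRel_c36 (Nat.le_refl _)) : Upto _ _ 2304 (2304 + 2 ^ 6))))
    (Upto.trans (mid := 2496) (Upto.trans (mid := 2432) ((Upto.of_pow swapRel_c37 (Nat.le_refl _)) : Upto _ _ 2368 (2368 + 2 ^ 6))
    ((Upto.of_pow swapRel_c38 (Nat.le_refl _)) : Upto _ _ 2432 (2432 + 2 ^ 6)))
    (Upto.trans (mid := 2560) ((Upto.of_pow swapRel_c39 (Nat.le_refl _)) : Upto _ _ 2496 (2496 + 2 ^ 6))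
    ((Upto.of_pow swapRel_c40 (Nat.le_refl _)) : Upto _ _ 2560 (2560 + 2 ^ 6))))))
    (Upto.trans (mid := 3072) (Upto.trans (mid := 2816) (Upto.trans (mid := 2688) ((Upto.of_pow swapRel_c41 (Nat.le_refl _)) : Upto _ _ 2624 (2624 + 2 ^ 6))
    (Upto.trans (mid := 2752) ((Upto.of_pow swapRel_c42 (Nat.le_refl _)) : Upto _ _ 2688 (2688 + 2 ^ 6))
    ((Upto.of_pow swapRel_c43 (Nat.le_refl _)) : Upto _ _ 2752 (2752 + 2 ^ 6))))
    (Upto.trans (mid := 2944) (Upto.trans (mid := 2880) ((Upto.of_pow swapRel_c44 (Nat.le_refl _)) : Upto _ _ 2816 (2816 + 2 ^ 6))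
    ((Upto.of_pow swapRel_c45 (Nat.le_refl _)) : Upto _ _ 2880 (2880 + 2 ^ 6)))
    (Upto.trans (mid := 3008) ((Upto.of_pow swapRel_c46 (Nat.le_refl _)) : Upto _ _ 2944 (2944 + 2 ^ 6))
    ((Upto.of_pow swapRel_c47 (Nat.le_refl _)) : Upto _ _ 3008 (3008 + 2 ^ 6)))))
    (Upto.trans (mid := 3264) (Upto.trans (mid := 3136) ((Upto.of_pow swapRel_c48 (Nat.le_refl _)) : Upto _ _ 3072 (3072 + 2 ^ 6))
    (Upto.trans (mid := 3200) ((Upto.of_pow swapRel_c49 (Nat.le_refl _)) : Upto _ _ 3136 (3136 + 2 ^ 6))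
    ((Upto.of_pow swapRel_c50 (Nat.le_refl _)) : Upto _ _ 3200 (3200 + 2 ^ 6))))
    (Upto.trans (mid := 3392) (Upto.trans (mid := 3328) ((Upto.of_pow swapRel_c51 (Nat.le_refl _)) : Upto _ _ 3264 (3264 + 2 ^ 6))
    ((Upto.of_pow swapRel_c52 (Nat.le_refl _)) : Upto _ _ 3328 (3328 + 2 ^ 6)))
    (Upto.trans (mid := 3456) ((Upto.of_pow swapRel_c53 (Nat.le_refl _)) : Upto _ _ 3392 (3392 + 2 ^ 6))
    ((Upto.of_pow swapRel_c54 (Nat.le_refl _)) : Upto _ _ 3456 (3456 + 2 ^ 6))))))))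
    (by decide) (by decide)

theorem noFix_c0 : allPow 14080 (fun u => !(Nat.beq (Fi22O.tabs .a true u) u) || !(Nat.beq (Fi22O.tabs .b true u) u) || !(Nat.beq (Fi22O.tabs .c true u) u) || !(Nat.beq (Fi22O.tabs .d true u) u) || !(Nat.beq (Fi22O.tabs .e true u) u) || !(Nat.beq (Fi22O.tabs .f true u) u) || !(Nat.beq (Fi22O.tabs .h true u) u) || !(Nat.beq (Fi22O.tabs .i true u) u)) 10 0 = true := by decide +kernel
theorem noFix_c1 : allPow 14080 (fun u => !(Nat.beq (Fi22O.tabs .a true u) u) || !(Nat.beq (Fi22O.tabs .b true u) u) || !(Nat.beq (Fi22O.tabs .c true u) u) || !(Nat.beq (Fi22O.tabs .d true u) u) || !(Nat.beq (Fi22O.tabs .e true u) u) || !(Nat.beq (Fi22O.tabs .f true u) u) || !(Nat.beq (Fi22O.tabs .h true u) u) || !(Nat.beq (Fi22O.tabs .i true u) u)) 10 1024 = true := by decide +kernel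
theorem noFix_c2 : allPow 14080 (fun u => !(Nat.beq (Fi22O.tabs .a true u) u) || !(Nat.beq (Fi22O.tabs .b true u) u) || !(Nat.beq (Fi22O.tabs .c true u) u) || !(Nat.beq (Fi22O.tabs .d true u) u) || !(Nat.beq (Fi22O.tabs .e true u) u) || !(Nat.beq (Fi22O.tabs .f true u) u) || !(Nat.beq (Fi22O.tabs .h true u) u) || !(Nat.beq (Fi22O.tabs .i true u) u)) 10 2048 = true := by decide +kernel
theorem noFix_c3 : allPow 14080 (fun u => !(Nat.beq (Fi22O.tabs .a true u) u) || !(Nat.beq (Fi22O.tabs .b true u) u) || !(Nat.beq (Fi22O.tabs .c true u) u) || !(Nat.beq (Fi22O.tabs .d true u) u) || !(Nat.beq (Fi22O.tabs .e true u) u) || !(Nat.beq (Fi22O.tabs .f true u) u) || !(Nat.beq (Fi22O.tabs .h true u) u) || !(Nat.beq (Fi22O.tabs .i true u) u)) 10 3072 = true := by decide +kernel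
theorem noFix_c4 : allPow 14080 (fun u => !(Nat.beq (Fi22O.tabs .a true u) u) || !(Nat.beq (Fi22O.tabs .b true u) u) || !(Nat.beq (Fi22O.tabs .c true u) u) || !(Nat.beq (Fi22O.tabs .d true u) u) || !(Nat.beq (Fi22O.tabs .e true u) u) || !(Nat.beq (Fi22O.tabs .f true u) u) || !(Nat.beq (Fi22O.tabs .h true u) u) || !(Nat.beq (Fi22O.tabs .i true u) u)) 10 4096 = true := by decide +kernel
theorem noFix_c5 : allPow 14080 (fun u => !(Nat.beq (Fi22O.tabs .a true u) u) || !(Nat.beq (Fi22O.tabs .b true u) u) || !(Nat.beq (Fi22O.tabs .c true u) u) || !(Nat.beq (Fi22O.tabs .d true u) u) || !(Nat.beq (Fi22O.tabs .e true u) u) || !(Nat.beq (Fi22O.tabs .f true u) u) || !(Nat.beq (Fi22O.tabs .h true u) u) || !(Nat.beq (Fi22O.tabs .i true u) u)) 10 5120 = true := by decide +kernel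
theorem noFix_c6 : allPow 14080 (fun u => !(Nat.beq (Fi22O.tabs .a true u) u) || !(Nat.beq (Fi22O.tabs .b true u) u) || !(Nat.beq (Fi22O.tabs .c true u) u) || !(Nat.beq (Fi22O.tabs .d true u) u) || !(Nat.beq (Fi22O.tabs .e true u) u) || !(Nat.beq (Fi22O.tabs .f true u) u) || !(Nat.beq (Fi22O.tabs .h true u) u) || !(Nat.beq (Fi22O.tabs .i true u) u)) 10 6144 = true := by decide +kernel
theorem noFix_c7 : allPow 14080 (fun u => !(Nat.beq (Fi22O.tabs .a true u) u) || !(Nat.beq (Fi22O.tabs .b true u) u) || !(Nat.beq (Fi22O.tabs .c true u) u) || !(Nat.beq (Fi22O.tabs .d true u) u) || !(Nat.beq (Fi22O.tabs .e true u) u) || !(Nat.beq (Fi22O.tabs .f true u) u) || !(Nat.beq (Fi22O.tabs .h true u) u) || !(Nat.beq (Fi22O.tabs .i true u) u)) 10 7168 = true := by decide +kernel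
theorem noFix_c8 : allPow 14080 (fun u => !(Nat.beq (Fi22O.tabs .a true u) u) || !(Nat.beq (Fi22O.tabs .b true u) u) || !(Nat.beq (Fi22O.tabs .c true u) u) || !(Nat.beq (Fi22O.tabs .d true u) u) || !(Nat.beq (Fi22O.tabs .e true u) u) || !(Nat.beq (Fi22O.tabs .f true u) u) || !(Nat.beq (Fi22O.tabs .h true u) u) || !(Nat.beq (Fi22O.tabs .i true u) u)) 10 8192 = true := by decide +kernel
theorem noFix_c9 : allPow 14080 (fun u => !(Nat.beq (Fi22O.tabs .a true u) u) || !(Nat.beq (Fi22O.tabs .b true u) u) || !(Nat.beq (Fi22O.tabs .c true u) u) || !(Nat.beq (Fi22O.tabs .d true u) u) || !(Nat.beq (Fi22O.tabs .e true u) u) || !(Nat.beq (Fi22O.tabs .f true u) u) || !(Nat.beq (Fi22O.tabs .h true u) u) || !(Nat.beq (Fi22O.tabs .i true u) u)) 10 9216 = true := by decide +kernel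
theorem noFix_c10 : allPow 14080 (fun u => !(Nat.beq (Fi22O.tabs .a true u) u) || !(Nat.beq (Fi22O.tabs .b true u) u) || !(Nat.beq (Fi22O.tabs .c true u) u) || !(Nat.beq (Fi22O.tabs .d true u) u) || !(Nat.beq (Fi22O.tabs .e true u) u) || !(Nat.beq (Fi22O.tabs .f true u) u) || !(Nat.beq (Fi22O.tabs .h true u) u) || !(Nat.beq (Fi22O.tabs .i true u) u)) 10 10240 = true := by decide +kernel
theorem noFix_c11 : allPow 14080 (fun u => !(Nat.beq (Fi22O.tabs .a true u) u) || !(Nat.beq (Fi22O.tabs .b true u) u) || !(Nat.beq (Fi22O.tabs .c true u) u) || !(Nat.beq (Fi22O.tabs .d true u) u) || !(Nat.beq (Fi22O.tabs .e true u) u) || !(Nat.beq (Fi22O.tabs .f true u) u) || !(Nat.beq (Fi22O.tabs .h true u) u) || !(Nat.beq (Fi22O.tabs .i true u) u)) 10 11264 = true := by decide +kernel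
theorem noFix_c12 : allPow 14080 (fun u => !(Nat.beq (Fi22O.tabs .a true u) u) || !(Nat.beq (Fi22O.tabs .b true u) u) || !(Nat.beq (Fi22O.tabs .c true u) u) || !(Nat.beq (Fi22O.tabs .d true u) u) || !(Nat.beq (Fi22O.tabs .e true u) u) || !(Nat.beq (Fi22O.tabs .f true u) u) || !(Nat.beq (Fi22O.tabs .h true u) u) || !(Nat.beq (Fi22O.tabs .i true u) u)) 10 12288 = true := by decide +kernel
theorem noFix_c13 : allPow 14080 (fun u => !(Nat.beq (Fi22O.tabs .a true u) u) || !(Nat.beq (Fi22O.tabs .b true u) u) || !(Nat.beq (Fi22O.tabs .c true u) u) || !(Nat.beq (Fi22O.tabs .d true u) u) || !(Nat.beq (Fi22O.tabs .e true u) u) || !(Nat.beq (Fi22O.tabs .f true u) u) || !(Nat.beq (Fi22O.tabs .h true u) u) || !(Nat.beq (Fi22O.tabs .i true u) u)) 10 13312 = true := by decide +kernel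
theorem noFix : allBelow 14 14080 (fun u => !(Nat.beq (Fi22O.tabs .a true u) u) || !(Nat.beq (Fi22O.tabs .b true u) u) || !(Nat.beq (Fi22O.tabs .c true u) u) || !(Nat.beq (Fi22O.tabs .d true u) u) || !(Nat.beq (Fi22O.tabs .e true u) u) || !(Nat.beq (Fi22O.tabs .f true u) u) || !(Nat.beq (Fi22O.tabs .h true u) u) || !(Nat.beq (Fi22O.tabs .i true u) u)) = true :=
  allBelow_of_upto (hi := 14336)
    (Upto.trans (mid := 7168) (Upto.trans (mid := 3072) (Upto.trans (mid := 1024) ((Upto.of_pow noFix_c0 (Nat.le_refl _)) : Upto _ _ 0 (0 + 2 ^ 10))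
    (Upto.trans (mid := 2048) ((Upto.of_pow noFix_c1 (Nat.le_refl _)) : Upto _ _ 1024 (1024 + 2 ^ 10))
    ((Upto.of_pow noFix_c2 (Nat.le_refl _)) : Upto _ _ 2048 (2048 + 2 ^ 10))))
    (Upto.trans (mid := 5120) (Upto.trans (mid := 4096) ((Upto.of_pow noFix_c3 (Nat.le_refl _)) : Upto _ _ 3072 (3072 + 2 ^ 10))
    ((Upto.of_pow noFix_c4 (Nat.le_refl _)) : Upto _ _ 4096 (4096 + 2 ^ 10)))
    (Upto.trans (mid := 6144) ((Upto.of_pow noFix_c5 (Nat.le_refl _)) : Upto _ _ 5120 (5120 + 2 ^ 10))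
    ((Upto.of_pow noFix_c6 (Nat.le_refl _)) : Upto _ _ 6144 (6144 + 2 ^ 10)))))
    (Upto.trans (mid := 10240) (Upto.trans (mid := 8192) ((Upto.of_pow noFix_c7 (Nat.le_refl _)) : Upto _ _ 7168 (7168 + 2 ^ 10))
    (Upto.trans (mid := 9216) ((Upto.of_pow noFix_c8 (Nat.le_refl _)) : Upto _ _ 8192 (8192 + 2 ^ 10))
    ((Upto.of_pow noFix_c9 (Nat.le_refl _)) : Upto _ _ 9216 (9216 + 2 ^ 10))))
    (Upto.trans (mid := 12288) (Upto.trans (mid := 11264) ((Upto.of_pow noFix_c10 (Nat.le_refl _)) : Upto _ _ 10240 (10240 + 2 ^ 10))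
    ((Upto.of_pow noFix_c11 (Nat.le_refl _)) : Upto _ _ 11264 (11264 + 2 ^ 10)))
    (Upto.trans (mid := 13312) ((Upto.of_pow noFix_c12 (Nat.le_refl _)) : Upto _ _ 12288 (12288 + 2 ^ 10))
    ((Upto.of_pow noFix_c13 (Nat.le_refl _)) : Upto _ _ 13312 (13312 + 2 ^ 10))))))
    (by decide) (by decide)

end CfsgLib.SporRecognition.Cert.Fi22Swap
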